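import Mathlib
import Cfsg.Agent.Lib.NumberTheory.Cyclotomic

/-!
Sylow `r`-subgroups of classical groups for `r` larger than the rank: abelian groups read off an embedded torus and
the group order.
-/

set_option autoImplicit false

namespace Cfsg.Agent.Lib.SylowLarge

open Finset

/-- An injective hom from a group of full `r`-part order identifies the Sylow subgroups. -/
theorem sylow_equiv_of_hom {G A : Type*} [Group G] [Finite G] [Group A] {r : ℕ} [Fact r.Prime]
    (φ : A →* G) (hφ : Function.Injective φ) (hc : Nat.card A = r ^ (Nat.card G).factorization r)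
    (P : Sylow r G) : Nonempty ((P : Subgroup G) ≃* A) := by
  let Q : Sylow r G := Sylow.ofCard φ.range (by
    rw [← Nat.card_congr (MonoidHom.ofInjective hφ).toEquiv, hc])
  exact ⟨(Sylow.equiv P Q).trans (MonoidHom.ofInjective hφ).symm⟩

/-- The exponent of `r` in `Φ_d(q)`, `d` the order of `q` modulo `r`. -/
noncomputable def expo (q r : ℕ) : ℕ :=
  padicValNat r ((Polynomial.cyclotomic (orderOf (q : ZMod r)) ℤ).eval (q : ℤ)).natAbs

/-- The model group. -/
abbrev model (q r a : ℕ) := Fin a → Multiplicative (ZMod (r ^ expo q r))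

theorem card_model (q r a : ℕ) : Nat.card (model q r a) = r ^ (expo q r * a) := by
  rw [Nat.card_fun, Nat.card_congr Multiplicative.toAdd, Nat.card_zmod, Nat.card_fin, ← pow_mul]

variable {q r : ℕ} [hr : Fact r.Prime]

theorem factorization_pow_order (hq : 2 ≤ q) (hrq : ¬ r ∣ q) :
    (q ^ orderOf (q : ZMod r) - 1).factorization r = expo q r := by
  set d := orderOf (q : ZMod r) with hd
  have hd0 : 0 < d := NumberTheory.orderOf_pos_of_not_dvd hr.out hrq
  rw [← NumberTheory.prod_cycVal hd0 hq, Nat.factorization_prod (fun x _ => (NumberTheory.cycVal_pos x hq).ne'),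
    Finsupp.finsetSum_apply, Finset.sum_eq_single_of_mem d (Nat.mem_divisors_self d hd0.ne')]
  · rw [Nat.factorization_def _ hr.out]; rfl
  · intro x hx hxd
    refine Nat.factorization_eq_zero_of_not_dvd fun h => ?_
    have hxd' := Nat.mem_divisors.1 hx
    have hx0 := Nat.pos_of_dvd_of_pos hxd'.1 hd0
    have h1 := (NumberTheory.dvd_pow_sub_one_iff_orderOf_dvd x (by omega : 1 ≤ q)).1
      (h.trans (NumberTheory.cycVal_dvd_pow_sub_one hx0 hq))
    exact hxd (Nat.dvd_antisymm hxd'.1 h1)

theorem factorization_pow_sub_one (hq : 2 ≤ q) (hrq : ¬ r ∣ q) {i : ℕ} (hi : 0 < i)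
    (hir : orderOf (q : ZMod r) ∣ i → ¬ r ∣ i / orderOf (q : ZMod r)) :
    (q ^ i - 1).factorization r = if orderOf (q : ZMod r) ∣ i then expo q r else 0 := by
  set d := orderOf (q : ZMod r) with hd
  have hd0 : 0 < d := NumberTheory.orderOf_pos_of_not_dvd hr.out hrq
  split
  · next h =>
    obtain ⟨k, rfl⟩ := h
    have hk := hir (dvd_mul_right d k)
    rw [Nat.mul_div_cancel_left _ hd0] at hk
    obtain ⟨y, hy⟩ : ∃ y, q ^ d = y + 1 := ⟨q ^ d - 1, (Nat.sub_add_cancel (Nat.one_le_pow _ _ (by omega))).symm⟩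
    have hs := geom_sum_mul_add y k
    have hy0 : y ≠ 0 := fun h => by
      have := Nat.one_lt_pow hd0.ne' (show 1 < q by omega)
      omega
    have hry : r ∣ y := by
      have h0 := (NumberTheory.dvd_pow_sub_one_iff_orderOf_dvd (p := r) d (by omega : 1 ≤ q)).2 dvd_rfl
      rwa [hy, Nat.add_sub_cancel] at h0
    have hsum : ¬ r ∣ ∑ j ∈ range k, (y + 1) ^ j := by
      intro h
      rw [← ZMod.natCast_eq_zero_iff] at h hry hk
      push_cast at h
      simp [hry] at h
      exact hk h
    have hsum0 : ∑ j ∈ range k, (y + 1) ^ j ≠ 0 := fun h => hsum (h ▸ dvd_zero r)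
    rw [pow_mul, hy, ← hs, Nat.add_sub_cancel, Nat.factorization_mul hsum0 hy0, Finsupp.add_apply,
      Nat.factorization_eq_zero_of_not_dvd hsum, zero_add, ← factorization_pow_order hq hrq, ← hd, hy,
      Nat.add_sub_cancel]
  · next h =>
    exact Nat.factorization_eq_zero_of_not_dvd fun h1 =>
      h ((NumberTheory.dvd_pow_sub_one_iff_orderOf_dvd i (by omega : 1 ≤ q)).1 h1)

/-- The sum of the exponents. -/
theorem sum_expo (f : ℕ → ℕ) (P : ℕ → Prop) [DecidablePred P] (n : ℕ)
    (h : ∀ i ∈ Icc 1 n, f i = if P i then expo q r else 0) :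
    ∑ i ∈ range n, f (i + 1) = expo q r * ((Icc 1 n).filter P).card := by
  have e : ∑ i ∈ range n, f (i + 1) = ∑ i ∈ Icc 1 n, f i := by
    rw [← Finset.Ico_add_one_right_eq_Icc, Finset.sum_Ico_eq_sum_range, Nat.add_sub_cancel]
    exact Finset.sum_congr rfl fun i _ => by rw [add_comm]
  rw [e, Finset.sum_congr rfl h, ← Finset.sum_filter, Finset.sum_const, smul_eq_mul, mul_comm]

theorem filter_dvd_card (n d : ℕ) : ((Icc 1 n).filter (d ∣ ·)).card = n / d := by
  rw [← Nat.Ioc_filter_dvd_card_eq_div, show Icc 1 n = Ioc 0 n by ext; simp; omega]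

theorem filter_two_card (n d : ℕ) :
    ((Icc 2 n).filter (d ∣ ·)).card = if d = 1 then n - 1 else n / d := by
  split
  · next h => subst h; simp
  · next h =>
    rw [← filter_dvd_card]
    congr 1
    ext i
    simp only [mem_filter, mem_Icc]
    refine ⟨fun hi => ⟨⟨by omega, hi.1.2⟩, hi.2⟩, fun hi => ⟨⟨?_, hi.1.2⟩, hi.2⟩⟩
    by_contra hlt
    exact h (Nat.dvd_one.1 ((show i = 1 by omega) ▸ hi.2))

section Torus

variable {F : Type*} [Field F] [Fintype F] (hF : Fintype.card F = q)
include hF

theorem two_le : 2 ≤ q := hF ▸ Fintype.one_lt_card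

theorem factorization_card_GL (hrq : ¬ r ∣ q) (n : ℕ)
    (hn : ∀ i ∈ Icc 1 n, orderOf (q : ZMod r) ∣ i → ¬ r ∣ i / orderOf (q : ZMod r)) :
    (Nat.card (GL (Fin n) F)).factorization r = expo q r * (n / orderOf (q : ZMod r)) := by
  classical
  have hq := two_le hF
  have hpos : ∀ i : Fin n, q ^ n - q ^ (i : ℕ) ≠ 0 := fun i =>
    (Nat.sub_pos_of_lt (Nat.pow_lt_pow_right (by omega) i.2)).ne'
  rw [Matrix.card_GL_field, hF, Nat.factorization_prod (fun i _ => hpos i), Finsupp.finsetSum_apply,
    Fin.sum_univ_eq_sum_range (fun i : ℕ => (q ^ n - q ^ i).factorization r) n, ← Finset.sum_range_reflect,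
    ← filter_dvd_card]
  refine Eq.trans (Finset.sum_congr rfl fun i hi => ?_) (sum_expo (q := q) (r := r)
    (fun i => (q ^ i - 1).factorization r) _ n fun i hi =>
      factorization_pow_sub_one hq hrq (by simp at hi; omega) (hn i hi))
  rw [mem_range] at hi
  have e : q ^ n - q ^ (n - 1 - i) = q ^ (n - 1 - i) * (q ^ (i + 1) - 1) := by
    rw [Nat.mul_sub, mul_one, ← pow_add, show n - 1 - i + (i + 1) = n by omega]
  have h2 : q ^ (i + 1) - 1 ≠ 0 := by
    have := Nat.one_lt_pow (show i + 1 ≠ 0 by omega) (show 1 < q by omega)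
    omega
  rw [e, Nat.factorization_mul (pow_ne_zero _ (by omega)) h2, Finsupp.add_apply,
    Nat.factorization_eq_zero_of_not_dvd (fun h => hrq (hr.out.dvd_of_dvd_pow h)), zero_add]

omit hF in
/-- A cyclic group of order `m` inside a group with a cyclic overgroup. -/
theorem exists_cyclic_hom {K : Type*} [Field K] [Finite K] {m : ℕ} [NeZero m] (h : m ∣ Nat.card K - 1) :
    ∃ c : Multiplicative (ZMod m) →* Kˣ, Function.Injective c := by
  obtain ⟨g, hg⟩ := IsCyclic.exists_ofOrder_eq_natCard (α := Kˣ)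
  rw [Nat.card_units] at hg
  have h0 : Nat.card K - 1 ≠ 0 := by have := Finite.one_lt_card (α := K); omega
  obtain ⟨x, hx⟩ : ∃ x : Kˣ, orderOf x = m := ⟨g ^ ((Nat.card K - 1) / m), by
    rw [orderOf_pow_of_dvd (Nat.div_pos (Nat.le_of_dvd (Nat.pos_of_ne_zero h0) h) (NeZero.pos m)).ne'
      (by rw [hg]; exact Nat.div_dvd_of_dvd h), hg, Nat.div_div_self h h0]⟩
  let e : Multiplicative (ZMod m) ≃* Subgroup.zpowers x := mulEquivOfCyclicCardEq (by
    rw [Nat.card_congr Multiplicative.toAdd, Nat.card_zmod, Nat.card_zpowers, hx])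
  exact ⟨(Subgroup.zpowers x).subtype.comp e.toMonoidHom,
    Subtype.val_injective.comp e.injective⟩

/-- The torus. -/
theorem exists_GL_hom (hrq : ¬ r ∣ q) {n a : ℕ} (ha : a * orderOf (q : ZMod r) ≤ n) :
    ∃ φ : model q r a →* GL (Fin n) F, Function.Injective φ := by
  classical
  set d := orderOf (q : ZMod r) with hd
  have hd0 : 0 < d := NumberTheory.orderOf_pos_of_not_dvd hr.out hrq
  have hq := two_le hF
  obtain ⟨p, hp⟩ := CharP.exists F
  haveI := hp
  haveI : Fact p.Prime := ⟨CharP.char_is_prime F p⟩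
  haveI : NeZero d := ⟨hd0.ne'⟩
  let K := FiniteField.Extension F p d
  haveI : NeZero (r ^ expo q r) := ⟨pow_ne_zero _ hr.out.ne_zero⟩
  have hK : Nat.card K = q ^ d := by
    rw [FiniteField.natCard_extension, Nat.card_eq_fintype_card, hF]
  obtain ⟨c, hc⟩ := exists_cyclic_hom (K := K) (m := r ^ expo q r) (by
    rw [hK, ← factorization_pow_order hq hrq]
    exact Nat.ordProj_dvd _ _)
  obtain ⟨b, rfl⟩ := Nat.exists_eq_add_of_le ha
  have hfr : Module.finrank F K = d := by
    have h := Module.natCard_eq_pow_finrank (K := F) (V := K)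
    rw [hK, Nat.card_eq_fintype_card, hF] at h
    exact (Nat.pow_right_injective hq h).symm
  let A := (Fin a → K) × (Fin b → F)
  have hA : Module.finrank F A = a * d + b := by
    rw [Module.finrank_prod, Module.finrank_pi_fintype, Finset.sum_const, Finset.card_univ,
      Fintype.card_fin, hfr, Module.finrank_fin_fun, smul_eq_mul]
  let B : Module.Basis (Fin (a * d + b)) F A := (Module.finBasis F A).reindex (finCongr hA)
  let ι : model q r a →* A :=
    { toFun := fun x => (fun i => (c (x i) : K), 1)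
      map_one' := by ext <;> simp
      map_mul' := fun x y => Prod.ext (funext fun i => by
        show (c (x i * y i) : K) = (c (x i) : K) * (c (y i) : K)
        rw [map_mul, Units.val_mul]) (one_mul (1 : Fin b → F)).symm }
  refine ⟨(Units.map (Algebra.leftMulMatrix B).toMonoidHom).comp ι.toHomUnits, ?_⟩
  intro x y h
  have h1 : ι x = ι y := Algebra.leftMulMatrix_injective B (congrArg Units.val h)
  funext i
  exact hc (Units.ext (congrFun (congrArg Prod.fst h1) i))

end Torus

end Cfsg.Agent.Lib.SylowLarge
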